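import Groth.Prelude.Def_ExtSupp
import Groth.Agent.GrothSS.LocAcyclic
import Groth.Agent.GrothSS.SectSections
import Groth.Agent.HomColim.LocalIso
import Groth.Agent.W7AdjExt.Basic
import Groth.Agent.Bousfield.Slice
import Groth.Agent.KFlat.Site

/-!
Excision for `Ext` with supports.
-/

set_option autoImplicit false
set_option linter.style.haveILetI false
set_option linter.unusedSectionVars false
set_option backward.isDefEq.respectTransparency false
set_option backward.isDefEq.respectTransparency.types false
set_option maxHeartbeats 1000000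

universe w w' u

open CategoryTheory Category Limits Opposite Abelian

noncomputable section

namespace Groth.Agent.ExtZExc

open Groth.Agent.ModSiteFlat (rmap)
open Groth.Agent.PullFlat (sect_ext sect_glue Loc)

variable {C : Type u} [SmallCategory C] [HasBinaryProducts C] {J : GrothendieckTopology C}
  {O : Sheaf J CommRingCat.{u}} (U V : C)

theorem hasBinaryProducts_over (hV : ∀ X : C, Subsingleton (X ⟶ V)) : HasBinaryProducts (Over V) :=
  haveI : ∀ A B : Over V, HasLimit (pair A B) := fun A B => HasLimit.mk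
    ⟨BinaryFan.mk (P := Over.mk (prod.fst ≫ A.hom : A.left ⨯ B.left ⟶ V))
        (Over.homMk prod.fst rfl) (Over.homMk prod.snd (@Subsingleton.elim _ (hV _) _ _)),
      BinaryFan.IsLimit.mk _ (fun {T} f g => Over.homMk (prod.lift f.left g.left) (@Subsingleton.elim _ (hV _) _ _))
        (fun f g => by ext; exact prod.lift_fst _ _)
        (fun f g => by ext; exact prod.lift_snd _ _)
        (fun f g m h₁ h₂ => by
          ext
          apply prod.hom_ext
          · exact (congrArg CommaMorphism.left h₁).trans (prod.lift_fst _ _).symm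
          · exact (congrArg CommaMorphism.left h₂).trans (prod.lift_snd _ _).symm)⟩
  hasBinaryProducts_of_hasLimit_pair _

lemma sect_sectOn_eq_zero (N : ModSite.Mod O) {T : C} (a : T ⟶ U)
    (s : ModSite.sect ((ModSite.sectOn O U).obj N) T) : s = 0 := by
  haveI : Mono ((ModSite.sectOnι O U).app N).val := (SheafOfModules.forget (ModSite.ringSh O)).map_mono _
  refine PresheafOfModules.injective_of_mono ((ModSite.sectOnι O U).app N).val (op T) ?_
  have h := GrothSS.restr_comp_ι (O := O) (U := U) (𝟙 ((ModSite.sectOn O U).obj N))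
  rw [id_comp] at h
  exact ((GrothSS.restr_map_eq_zero_iff O U _).1 h a s).trans (map_zero _).symm

section Glue

variable {U V} (hV : ∀ X : C, Subsingleton (X ⟶ V)) (hUV : J.CoversTop (fun b : Bool => cond b U V))
  {M S : ModSite.Mod O} (hS : ∀ ⦃T : C⦄ (_ : T ⟶ U) (s : ModSite.sect S T), s = 0)

include hUV in
lemma eq_on_cover {G : ModSite.Mod O} {T : C} {s t : ModSite.sect G T}
    (hu : ∀ ⦃W : C⦄ (g : W ⟶ T) (_ : W ⟶ U), rmap G g s = rmap G g t)
    (hv : ∀ ⦃W : C⦄ (g : W ⟶ T) (_ : W ⟶ V), rmap G g s = rmap G g t) : s = t := by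
  refine sect_ext ⟨_, hUV T, fun W g hg => ?_⟩
  obtain ⟨b, ⟨a⟩⟩ := (Sieve.mem_ofObjects_iff ..).mp hg
  cases b
  · exact hv g a
  · exact hu g a

include hV hUV hS in
theorem restr_bijective :
    Function.Bijective (fun φ : M ⟶ S => (ModSite.restr O V).map φ) := by
  classical
  refine ⟨fun φ φ' h => ?_, fun ψ => ?_⟩
  · apply (SheafOfModules.toSheaf _).map_injective
    ext T m
    refine eq_on_cover hUV (G := S) (s := (φ.val.app T).hom m) (t := (φ'.val.app T).hom m)
      (fun W g a => (hS a _).trans (hS a _).symm) fun W g a => ?_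
    have nat : ∀ f : M ⟶ S, rmap S g ((f.val.app T).hom m) = (f.val.app (op W)).hom (rmap M g m) :=
      fun f => (PresheafOfModules.naturality_apply f.val g.op m).symm
    rw [nat, nat]
    exact congrArg (fun f : (ModSite.restr O V).obj M ⟶ (ModSite.restr O V).obj S =>
      (f.val.app (op (Over.mk a))).hom (rmap M g m)) h
  · let p : ∀ ⦃W : C⦄, (W ⟶ V) → ModSite.sect M W → ModSite.sect S W := fun W a m =>
      (ψ.val.app (op (Over.mk a))).hom m
    have pnat : ∀ ⦃W W' : C⦄ (a : W ⟶ V) (a' : W' ⟶ V) (g : W' ⟶ W) (m : ModSite.sect M W),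
        rmap S g (p a m) = p a' (rmap M g m) := fun W W' a a' g m => by
      obtain rfl : a' = g ≫ a := @Subsingleton.elim _ (hV _) _ _
      exact (PresheafOfModules.naturality_apply ψ.val (Over.homMk g rfl : Over.mk (g ≫ a) ⟶ Over.mk a).op m).symm
    let y : ∀ ⦃T W : C⦄, (W ⟶ T) → ModSite.sect M T → ModSite.sect S W := fun T W g m =>
      if h : Nonempty (W ⟶ V) then p h.some (rmap M g m) else 0
    have yV : ∀ ⦃T W : C⦄ (g : W ⟶ T) (a : W ⟶ V) (m : ModSite.sect M T), y g m = p a (rmap M g m) :=
      fun T W g a m => by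
        simp only [y, dif_pos (⟨a⟩ : Nonempty (W ⟶ V))]
        rw [show (⟨a⟩ : Nonempty (W ⟶ V)).some = a from @Subsingleton.elim _ (hV _) _ _]
    have ex : ∀ (T : C) (m : ModSite.sect M T), ∃ s : ModSite.sect S T,
        ∀ ⦃W : C⦄ (g : W ⟶ T) (a : W ⟶ V), rmap S g s = p a (rmap M g m) := fun T m => by
      obtain ⟨s, hs⟩ := sect_glue (G := S) (hUV T) (fun W g _ => y g m) fun U₁ U₂ g hg u => by
        obtain ⟨b, ⟨a⟩⟩ := (Sieve.mem_ofObjects_iff ..).mp hg
        cases b
        · rw [yV g a, yV (u ≫ g) (u ≫ a), pnat a (u ≫ a), ModSiteFlat.rmap_comp]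
        · exact (hS (u ≫ a) _).trans (hS (u ≫ a) _).symm
      refine ⟨s, fun W g a => ?_⟩
      have hg : Sieve.ofObjects (fun b : Bool => cond b U V) T g :=
        (Sieve.mem_ofObjects_iff ..).mpr ⟨false, ⟨a⟩⟩
      rw [hs g hg, yV g a]
    choose F hF using ex
    have uniq : ∀ {T : C} (m : ModSite.sect M T) (s : ModSite.sect S T),
        (∀ ⦃W : C⦄ (g : W ⟶ T) (a : W ⟶ V), rmap S g s = p a (rmap M g m)) → F T m = s := fun m s h =>
      eq_on_cover hUV (fun W g a => (hS a _).trans (hS a _).symm) fun W g a => (hF _ m g a).trans (h g a).symm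
    let app : ∀ T : Cᵒᵖ, M.val.obj T ⟶ S.val.obj T := fun T => ModuleCat.ofHom
      { toFun := F T.unop
        map_add' := fun m m' => uniq _ _ fun W g a => by
          rw [map_add, hF _ m g a, hF _ m' g a, map_add]
          exact (map_add (ψ.val.app (op (Over.mk a))).hom _ _).symm
        map_smul' := fun r m => uniq _ _ fun W g a => by
          rw [RingHom.id_apply, ModSiteFlat.rmap_smul, ModSiteFlat.rmap_smul, hF _ m g a]
          exact ((ψ.val.app (op (Over.mk a))).hom.map_smul _ _).symm }
    let Φ : M.val ⟶ S.val :=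
      { app := app
        naturality := fun {T T'} g => by
          ext m
          refine uniq _ _ fun W g' a => ?_
          show rmap S g' (rmap S g.unop (F T.unop m)) = p a (rmap M g' (rmap M g.unop m))
          refine (ModSiteFlat.rmap_comp S g.unop g' _).symm.trans ((hF _ m _ a).trans ?_)
          exact congrArg (p a) (ModSiteFlat.rmap_comp M g.unop g' m) }
    refine ⟨⟨Φ⟩, ?_⟩
    apply (SheafOfModules.toSheaf _).map_injective
    ext T m
    show F T.unop.left m = _
    refine uniq _ _ fun W g a => ?_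
    exact (pnat T.unop.hom a g m).trans rfl

end Glue

variable {U V}

theorem nonempty_excision [HasExt.{w} (ModSite.Mod O)] [HasExt.{w'} (ModSite.Mod (O.over V))]
    (hV : ∀ X : C, Subsingleton (X ⟶ V)) (hUV : J.CoversTop (fun b : Bool => cond b U V)) (M N : ModSite.Mod O)
    (i : ℕ) :
    Nonempty (ExtSupp.ExtZ U M N i ≃+ ExtSupp.ExtZover V (Over.mk (prod.snd : U ⨯ V ⟶ V)) M N i) := by
  haveI := hasBinaryProducts_over V hV
  let W : Over V := Over.mk (prod.snd : U ⨯ V ⟶ V)
  let R := ModSite.restr O V
  let E := ModSite.extZero O V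
  let A := (ModSite.restr O V).obj M
  let c : E.obj A ⟶ M := (ModSite.extZeroAdj O V).counit.app M
  haveI : IsIso ((ModSite.quotOn O U).map c) := by
    refine isIso_of_coyoneda_map_bijective _ fun N' => ?_
    let a := GrothSS.quotSectAdj O U
    have hb : Function.Bijective (fun φ : M ⟶ (ModSite.sectOn O U).obj N' => c ≫ φ) := by
      have h := restr_bijective hV hUV (M := M) (fun _ g s => sect_sectOn_eq_zero U N' g s)
      have e : (fun φ : M ⟶ (ModSite.sectOn O U).obj N' => c ≫ φ) =
          ((ModSite.extZeroAdj O V).homEquiv A _).symm ∘ fun φ => R.map φ := by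
        funext φ
        rw [Function.comp_apply, Adjunction.homEquiv_counit]
        exact ((ModSite.extZeroAdj O V).counit.naturality φ).symm
      rw [e]
      exact (Equiv.bijective _).comp h
    have e : (fun x : (ModSite.quotOn O U).obj M ⟶ N' => (ModSite.quotOn O U).map c ≫ x) =
        (a.homEquiv _ _).symm ∘ (fun φ => c ≫ φ) ∘ a.homEquiv M N' := by
      funext x
      simp only [Function.comp_apply]
      rw [a.homEquiv_naturality_left_symm, Equiv.symm_apply_apply]
    rw [e]
    exact (Equiv.bijective _).comp (hb.comp (Equiv.bijective _))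
  let e₁ : (ModSite.quotOn O U).obj (E.obj A) ≅ E.obj ((ModSite.quotOn (O.over V) W).obj A) :=
    ((((ModSite.extZeroAdj O V).comp (GrothSS.quotSectAdj O U)).ofNatIsoRight (GrothSS.sectRestrIso O U V)).leftAdjointUniq
      ((GrothSS.quotSectAdj (O.over V) W).comp (ModSite.extZeroAdj O V))).app A
  let e := (asIso ((ModSite.quotOn O U).map c)).symm ≪≫ e₁
  haveI := ModSiteExt.preservesFiniteLimits_extZero O V
  haveI := Bousfield.preservesFiniteColimits_restr O V
  haveI := Bousfield.preservesFiniteLimits_restr O V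
  haveI : (ModSite.restr O V).Additive := by
    haveI := preservesBinaryBiproducts_of_preservesBinaryProducts (ModSite.restr O V)
    exact Functor.additive_of_preservesBinaryBiproducts _
  haveI : PreservesColimitsOfSize.{0, 0} (ModSite.extZero O V) :=
    (ModSite.extZeroAdj O V).leftAdjoint_preservesColimits
  haveI : (ModSite.extZero O V).Additive := by
    haveI := preservesBinaryBiproducts_of_preservesBinaryCoproducts (ModSite.extZero O V)
    exact Functor.additive_of_preservesBinaryBiproducts _
  haveI : IsGrothendieckAbelian.{u} (ModSite.Mod O) := KFlat.isGrothendieck O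
  obtain ⟨f⟩ := W7AdjExt.nonempty_ext_adj E R (ModSite.extZeroAdj O V)
    ((ModSite.quotOn (O.over V) W).obj A) N i
  exact ⟨(((extFunctor i).mapIso e.op).app N).symm.addCommGroupIsoToAddEquiv.trans f⟩

end Groth.Agent.ExtZExc
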